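import Cfsg.Agent.Lib.PGroup.Basic

/-!
# Small lemmas for p-rank bounds in class two p-groups (helper74)

* `le_pRank`, `pRank_eq_of_elementary`
* `commutator_le_center_of_class_le_two`
* `exists_generators_over`: few generators of a subgroup over a smaller one
-/

set_option autoImplicit false

namespace Cfsg.Agent.PRankBound

open Subgroup

variable {G : Type*} [Group G] [Finite G] {p : ℕ} [hp : Fact p.Prime]

theorem bddAbove_pRankAtLeast : BddAbove {k : ℕ | Cfsg.PRankAtLeast p k G} := by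
  refine ⟨Nat.card G, fun k hk => ?_⟩
  obtain ⟨A, -, -, hA⟩ := hk
  exact (Nat.lt_pow_self hp.out.one_lt).le.trans (hA.trans A.card_le_card_group)

theorem le_pRank (A : Subgroup G) (hc : IsMulCommutative A) (hexp : ∀ a ∈ A, a ^ p = 1) {k : ℕ}
    (hk : p ^ k ≤ Nat.card A) : k ≤ Cfsg.pRank p G :=
  le_csSup bddAbove_pRankAtLeast ⟨A, hc, hexp, hk⟩

theorem pRank_eq_of_elementary (hc : ∀ a b : G, a * b = b * a) (hexp : ∀ a : G, a ^ p = 1) {n : ℕ}
    (hn : Nat.card G = p ^ n) : Cfsg.pRank p G = n := by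
  have htop : IsMulCommutative (⊤ : Subgroup G) := ⟨⟨fun a b => Subtype.ext (hc a b)⟩⟩
  refine le_antisymm ?_ (le_pRank ⊤ htop (fun a _ => hexp a) (by rw [Subgroup.card_top, hn]))
  refine csSup_le ⟨n, ⊤, htop, fun a _ => hexp a, by rw [Subgroup.card_top, hn]⟩ ?_
  rintro k ⟨A, -, -, hA⟩
  exact (Nat.pow_le_pow_iff_right hp.out.one_lt).1 ((hA.trans A.card_le_card_group).trans hn.le)

omit hp in
theorem commutator_le_center_of_class_le_two [Group.IsNilpotent G] (hcl : Group.nilpotencyClass G ≤ 2) :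
    _root_.commutator G ≤ Subgroup.center G := by
  have h2 := Subgroup.upperCentralSeries_eq_top_iff_nilpotencyClass_le.2 hcl
  rw [_root_.commutator_def, Subgroup.commutator_le]
  intro x _ y _
  have hx : x ∈ Subgroup.upperCentralSeries G 2 := by rw [h2]; trivial
  have h := Subgroup.mem_upperCentralSeries_succ_iff.1 hx y
  rwa [Subgroup.upperCentralSeries_one] at h

/-- A subgroup `E` of a `p`-group is generated over `F` by at most `log_p |E : F|` elements. -/
theorem exists_generators_over (hG : IsPGroup p G) {F E : Subgroup G} (hFE : F ≤ E) :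
    ∃ S : Finset G, (↑S : Set G) ⊆ E ∧ Subgroup.closure (↑S ∪ ↑F : Set G) = E ∧
      p ^ S.card * Nat.card F ≤ Nat.card E := by
  classical
  have := Fintype.ofFinite G
  let good : Finset (Finset G) := Finset.univ.filter fun S =>
    (↑S : Set G) ⊆ E ∧ p ^ S.card * Nat.card F ≤ Nat.card (Subgroup.closure (↑S ∪ ↑F : Set G))
  have h0 : (∅ : Finset G) ∈ good := by
    refine Finset.mem_filter.2 ⟨Finset.mem_univ _, by simp, ?_⟩
    simp
  obtain ⟨S, hS, hmax⟩ := Finset.exists_max_image good
    (fun S => Nat.card (Subgroup.closure (↑S ∪ ↑F : Set G))) ⟨∅, h0⟩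
  obtain ⟨-, hSE, hScard⟩ := Finset.mem_filter.1 hS
  have hle : Subgroup.closure (↑S ∪ ↑F : Set G) ≤ E := (Subgroup.closure_le _).2 (Set.union_subset hSE hFE)
  refine ⟨S, hSE, ?_, hScard.trans (Nat.le_of_dvd Nat.card_pos (Subgroup.card_dvd_of_le hle))⟩
  by_contra hne
  obtain ⟨e, he, heD⟩ := SetLike.not_le_iff_exists.1 fun h => hne (le_antisymm hle h)
  set D := Subgroup.closure (↑S ∪ ↑F : Set G) with hD
  set D' := Subgroup.closure (↑(insert e S) ∪ ↑F : Set G) with hD'
  have hDD' : D ≤ D' := Subgroup.closure_mono (Set.union_subset_union_left _ (by simp))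
  have hlt : Nat.card D < Nat.card D' := by
    refine lt_of_le_of_ne (Nat.le_of_dvd Nat.card_pos (Subgroup.card_dvd_of_le hDD')) fun h => heD ?_
    rw [Subgroup.eq_of_le_of_card_ge hDD' h.ge]
    exact Subgroup.subset_closure (Or.inl (by simp))
  obtain ⟨a, ha⟩ := IsPGroup.iff_card.1 (hG.to_subgroup D)
  obtain ⟨b, hb⟩ := IsPGroup.iff_card.1 (hG.to_subgroup D')
  have hab : a + 1 ≤ b := by
    rw [ha, hb] at hlt
    exact (Nat.pow_lt_pow_iff_right hp.out.one_lt).1 hlt
  have hins : insert e S ∈ good := by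
    refine Finset.mem_filter.2 ⟨Finset.mem_univ _, ?_, ?_⟩
    · rw [Finset.coe_insert]; exact Set.insert_subset he hSE
    · refine le_trans ?_ ((Nat.pow_le_pow_right hp.out.pos hab).trans hb.ge)
      rw [pow_succ, ← ha]
      calc p ^ (insert e S).card * Nat.card F ≤ p ^ (S.card + 1) * Nat.card F :=
            Nat.mul_le_mul_right _ (Nat.pow_le_pow_right hp.out.pos (Finset.card_insert_le _ _))
        _ = p ^ S.card * Nat.card F * p := by ring
        _ ≤ Nat.card D * p := Nat.mul_le_mul_right _ hScard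
  exact absurd (hmax _ hins) (not_le.2 hlt)

end Cfsg.Agent.PRankBound
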